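import Cfsg.Agent.H668.Five.Rows
import Cfsg.Agent.H488.PsuTwo
import Cfsg.Agent.H372.FxPsuD
import Cfsg.Agent.H360.Iso.UniElt
import Cfsg.Agent.S0281

/-!
# S4874, the rows `PSU₃(q)` (helper372, task 4243)

* `row_psu_three_odd` : `Good (PSU 3 F q)`, `q` odd;
* `row_psu_three_even` : `Good4 (PSU 3 F q)`, `q ≥ 4` even.
-/

set_option autoImplicit false

namespace Cfsg.Agent.H372.Five

open Cfsg Matrix
open Cfsg.Agent.H668.Five Cfsg.Agent.H634.ZJ
open Cfsg.Agent.H948.UBase Cfsg.Agent.H948.UProd Cfsg.Agent.H948.UTorus Cfsg.Agent.H948.UMain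
open Cfsg.Agent.LieClassical.HermBasic Cfsg.Agent.LieClassical.HermSiegel Cfsg.Agent.LieClassical.SUBasic
open Cfsg.Agent.ClassicalGeometry.PSUAutBasic
open Cfsg.Agent.Phan (emb emb_injective)



/-- two elements of odd order whose product has order four -/
theorem not_compl_of_mul {X : Type*} [Group X] [Finite X] {g h : X} (hg : Odd (orderOf g)) (hh : Odd (orderOf h))
    (h4 : orderOf (g * h) = 4) : ¬ HasNormalPComplement 2 X := by
  intro hX
  obtain ⟨N, hN, hpN, k, hk⟩ := OddOrderLocal.NilpotentQuotient.exists_of_hasNormalPComplement hX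
  have key : ∀ h : X, Odd (orderOf h) → h ∈ N := by
    intro h hodd
    have h1 : h ^ (2 ^ k) ∈ N := by
      rw [← hk]
      exact Subgroup.pow_index_mem N h
    have h2 : Nat.Coprime (2 ^ k) (orderOf h) :=
      Nat.Coprime.pow_left k (Nat.coprime_two_left.2 hodd)
    have h3 : h ∈ Subgroup.zpowers (h ^ (2 ^ k)) := by
      obtain ⟨m, hm⟩ := exists_pow_eq_self_of_coprime h2
      exact Subgroup.mem_zpowers_iff.2 ⟨(m : ℤ), by rw [zpow_natCast]; exact hm⟩
    exact (Subgroup.zpowers_le.2 h1) h3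
  have h5 : g * h ∈ N := N.mul_mem (key g hg) (key h hh)
  have h6 : orderOf (g * h) ∣ Nat.card N := by
    have := orderOf_dvd_natCard (⟨_, h5⟩ : N)
    rwa [Subgroup.orderOf_mk] at this
  rw [h4] at h6
  exact hpN (Dvd.dvd.trans (by norm_num) h6)

/-- `SL₂(K)`, `|K|` odd, has no normal `2`-complement -/
theorem not_compl_sl_two {K : Type*} [Field K] [Fintype K] (hK : Odd (Fintype.card K)) :
    ¬ HasNormalPComplement 2 (SpecialLinearGroup (Fin 2) K) := by
  have hch : (2 : K) ≠ 0 := by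
    intro h
    have h1 : CharP K 2 := CharTwo.of_one_ne_zero_of_two_eq_zero one_ne_zero h
    have h2 := (CharP.cast_eq_zero_iff K 2 (Fintype.card K)).1 (FiniteField.cast_card_eq_zero K)
    exact (Nat.not_even_iff_odd.2 hK) (even_iff_two_dvd.2 h2)
  let V : SpecialLinearGroup (Fin 2) K →* Matrix (Fin 2) (Fin 2) K :=
    { toFun := fun A => A.1, map_one' := rfl, map_mul' := fun _ _ => rfl }
  have hV : Function.Injective V := fun A B h => Subtype.ext h
  obtain ⟨g, hgV⟩ : ∃ g : SpecialLinearGroup (Fin 2) K, V g = !![1, 1; 0, 1] := ⟨⟨!![1, 1; 0, 1], by simp [det_fin_two]⟩, rfl⟩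
  obtain ⟨h, hhV⟩ : ∃ g : SpecialLinearGroup (Fin 2) K, V g = !![1, 0; -2, 1] := ⟨⟨!![1, 0; -2, 1], by simp [det_fin_two]⟩, rfl⟩
  have hg : ∀ n : ℕ, V (g ^ n) = !![1, (n : K); 0, 1] := by
    intro n
    induction n with
    | zero => rw [pow_zero, map_one]; ext i j; fin_cases i <;> fin_cases j <;> simp
    | succ n ih =>
      rw [pow_succ, map_mul, ih, hgV]
      ext i j
      fin_cases i <;> fin_cases j <;> simp [Matrix.mul_apply, Fin.sum_univ_two, add_comm]
  have hh : ∀ n : ℕ, V (h ^ n) = !![1, 0; -2 * (n : K), 1] := by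
    intro n
    induction n with
    | zero => rw [pow_zero, map_one]; ext i j; fin_cases i <;> fin_cases j <;> simp
    | succ n ih =>
      rw [pow_succ, map_mul, ih, hhV]
      ext i j
      fin_cases i <;> fin_cases j <;> simp [Matrix.mul_apply, Fin.sum_univ_two]
      ring
  have hg1 : g ^ Fintype.card K = 1 := by
    apply hV
    rw [hg, FiniteField.cast_card_eq_zero, map_one]
    ext i j
    fin_cases i <;> fin_cases j <;> simp
  have hh1 : h ^ Fintype.card K = 1 := by
    apply hV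
    rw [hh, FiniteField.cast_card_eq_zero, map_one]
    ext i j
    fin_cases i <;> fin_cases j <;> simp
  have hgh : V (g * h) = !![-1, 1; -2, 1] := by
    rw [map_mul, hgV, hhV]
    ext i j
    fin_cases i <;> fin_cases j <;> simp [Matrix.mul_apply, Fin.sum_univ_two]
    all_goals ring
  have hgh2 : V ((g * h) ^ 2) = !![-1, 0; 0, -1] := by
    rw [pow_two, map_mul, hgh]
    ext i j
    fin_cases i <;> fin_cases j <;> simp [Matrix.mul_apply, Fin.sum_univ_two]
    all_goals ring
  refine not_compl_of_mul (g := g) (h := h) (hK.of_dvd_nat (orderOf_dvd_of_pow_eq_one hg1))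
    (hK.of_dvd_nat (orderOf_dvd_of_pow_eq_one hh1)) ?_
  have : Fact (Nat.Prime 2) := ⟨Nat.prime_two⟩
  have h7 : orderOf (g * h) = 2 ^ (1 + 1) := by
    refine orderOf_eq_prime_pow ?_ ?_
    · rw [pow_one]
      intro h8
      rw [h8, map_one] at hgh2
      have h9 := congrFun (congrFun hgh2 0) 0
      simp at h9
      apply hch
      linear_combination h9
    · rw [show (2 ^ (1 + 1) : ℕ) = 2 * 2 by norm_num, pow_mul]
      apply hV
      rw [pow_two ((g * h) ^ 2), map_mul, hgh2, map_one]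
      ext i j
      fin_cases i <;> fin_cases j <;> simp [Matrix.mul_apply, Fin.sum_univ_two]
  rw [h7]
  norm_num

variable {F : Type} [Field F] [Fintype F] {q : ℕ}

/-- `SU₂(q)`, `q` odd, has no normal `2`-complement -/
theorem not_compl_su_two (hF : Fintype.card F = q ^ 2) (hq : Odd q) : ¬ HasNormalPComplement 2 ↥(SU 2 F q) := by
  obtain ⟨p, k, hp, hch, hk, hk0⟩ := exists_prime_pow hF
  have : Fact p.Prime := ⟨hp⟩
  have : Fintype (GaloisField p k) := Fintype.ofFinite _
  have hK : Fintype.card (GaloisField p k) = q := by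
    rw [← Nat.card_eq_fintype_card, GaloisField.card p k hk0.ne', hk]
  obtain ⟨e⟩ := Cfsg.Agent.S0281.result (F := F) (K := GaloisField p k) hF hK
  intro h
  exact not_compl_sl_two (K := GaloisField p k) (by rw [hK]; exact hq)
    (hasNormalPComplement_of_injective (p := 2) e.symm.toMonoidHom e.symm.injective h)

/-- the block `SU₂(q) → PSU₃(q)` -/
def blk (hF : Fintype.card F = q ^ 2) : ↥(SU 2 F q) →* PSU 3 F q := (pr 3 F q).comp (emb hF 0 (by omega))

theorem orderOf_blk (hF : Fintype.card F = q ^ 2) (a : ↥(SU 2 F q)) : orderOf (blk hF a) = orderOf a :=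
  Cfsg.Agent.H372.FxU.orderOf_emb (m := 2) (n := 3) hF le_rfl (by omega) (by omega) a

theorem blk_injective (hF : Fintype.card F = q ^ 2) : Function.Injective (blk hF) := by
  rw [injective_iff_map_eq_one]
  intro a ha
  have h := orderOf_blk hF a
  rw [ha, orderOf_one] at h
  exact orderOf_eq_one_iff.1 h.symm

/-- elements commuting with the block -/
theorem nn_of_comm (hF : Fintype.card F = q ^ 2) (hq : Odd q) {z : PSU 3 F q}
    (hz : ∀ a : ↥(SU 2 F q), Commute (blk hF a) z) : NN z := by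
  have hfin : Finite (PSU 3 F q) := Quotient.finite _
  refine NN.of_le (K := (blk hF).range) ?_ ?_
  · intro h
    refine not_compl_su_two hF hq (hasNormalPComplement_of_injective (p := 2) (blk hF).rangeRestrict ?_ h)
    intro a b hab
    exact blk_injective hF (congrArg Subtype.val hab)
  · rintro g ⟨a, rfl⟩
    exact hz a

/-- elements of order `m ∣ q + 1`, `m` prime to `3`, commuting with the block -/
theorem exists_comm (hF : Fintype.card F = q ^ 2) {m : ℕ} (hm : m ∣ q + 1) (h3 : Nat.Coprime m 3) :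
    ∃ z : PSU 3 F q, orderOf z = m ∧ ∀ a : ↥(SU 2 F q), Commute (blk hF a) z := by
  have hdvd : m ∣ q ^ 2 - 1 := by rw [H372.FxU.sq_sub hF]; exact hm.trans (dvd_mul_left _ _)
  obtain ⟨c, hc0, hc⟩ := H372.FxU.exists_unit hF hdvd
  have hc1 : c ^ (q + 1) = 1 := orderOf_dvd_iff_pow_eq_one.1 (by rw [hc]; exact hm)
  obtain ⟨z, hz, -, hz2⟩ := H372.FxU.exists_D hF (k := 2) le_rfl hc1
  refine ⟨pr 3 F q z, ?_, fun a => ?_⟩
  · refine Nat.dvd_antisymm ?_ ?_
    · apply orderOf_dvd_of_pow_eq_one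
      rw [← map_pow, pr_eq_one_iff, hz2, mul_comm, pow_mul, ← hc, pow_orderOf_eq_one, one_pow]
    · have h1 : z ^ orderOf (pr 3 F q z) ∈ Subgroup.center ↥(SU 3 F q) := by
        rw [← pr_eq_one_iff, map_pow, pow_orderOf_eq_one]
      have h2 := orderOf_dvd_of_pow_eq_one ((hz2 _).1 h1)
      rw [hc] at h2
      exact h3.dvd_of_dvd_mul_left h2
  · show pr 3 F q _ * pr 3 F q z = pr 3 F q z * pr 3 F q _
    rw [← map_mul, hz a, map_mul]

/-- **`PSU₃(q)`, `q` odd** -/
theorem row_psu_three_odd (F : Type) [Field F] [Fintype F] (q : ℕ) (hF : Fintype.card F = q ^ 2)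
    (hq : Odd q) : Good (PSU 3 F q) := by
  have hfin : Finite (PSU 3 F q) := Quotient.finite _
  by_cases h4 : 4 ∣ q + 1
  · obtain ⟨v, hv, hc⟩ := exists_comm hF h4 (by norm_num)
    exact Or.inl ⟨v, hv, nn_of_comm hF hq hc⟩
  · obtain ⟨z, hz, hc⟩ := exists_comm hF (m := 2) (by obtain ⟨j, hj⟩ := hq; exact ⟨j + 1, by omega⟩) (by norm_num)
    refine Or.inr ⟨z, ?_⟩
    obtain ⟨x, hx⟩ := Cfsg.Agent.H360.Iso.exists_subU hF (n := 3) le_rfl
    have e1 : ph q (3 - 2) = q ^ 2 - 1 := by
      show ph q 1 = _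
      unfold ph
      rw [if_neg (by decide)]
    rw [e1] at hx
    have h8 : 8 ∣ q ^ 2 - 1 := by
      obtain ⟨j, hj⟩ := hq
      have h1 : q ^ 2 - 1 = 4 * (j * (j + 1)) := by
        rw [hj]
        have : (2 * j + 1) ^ 2 = 4 * (j * (j + 1)) + 1 := by ring
        rw [this, Nat.add_sub_cancel]
      rw [h1]
      obtain ⟨t, ht⟩ := (Nat.even_mul_succ_self j).two_dvd
      rw [ht]
      exact ⟨t, by ring⟩
    have h9 : 8 ∣ orderOf x := by
      have h10 : Nat.Coprime 8 (Nat.gcd 3 (q + 1)) := by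
        refine Nat.Coprime.coprime_dvd_right (Nat.gcd_dvd_left _ _) (by norm_num)
      exact h10.dvd_of_dvd_mul_right (h8.trans hx)
    obtain ⟨j, hj⟩ := h9
    have hx0 : 0 < orderOf x := orderOf_pos x
    refine ⟨x ^ j, hz, nn_of_comm hF hq hc, ?_⟩
    have hj0 : j ≠ 0 := by
      rintro rfl
      omega
    rw [orderOf_pow_of_dvd hj0 (by rw [hj]; exact dvd_mul_left _ _), hj, Nat.mul_div_cancel _ (Nat.pos_of_ne_zero hj0)]

/-- trivially intersecting Sylow subgroups: the centralizer of an involution has a normal Sylow `2`-subgroup -/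
theorem exists_normal_sylow {T : Type*} [Group T] [Finite T]
    (hti : ∀ P Q : Sylow 2 T, P ≠ Q → (P : Subgroup T) ⊓ Q = ⊥) {z : T} (hz : orderOf z = 2) :
    ∃ Q : Subgroup ↥(Subgroup.centralizer ({z} : Set T)), Q.Normal ∧ IsPGroup 2 ↥Q ∧ ¬ 2 ∣ Q.index := by
  have : Fact (Nat.Prime 2) := ⟨Nat.prime_two⟩
  have hz1 : z ≠ 1 := by
    rintro rfl
    rw [orderOf_one] at hz
    omega
  have hpz : IsPGroup 2 ↥(Subgroup.zpowers z) := IsPGroup.of_card (n := 1) (by rw [Nat.card_zpowers, hz, pow_one])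
  obtain ⟨P, hP⟩ := hpz.exists_le_sylow
  have hzP : z ∈ (P : Subgroup T) := hP (Subgroup.mem_zpowers z)
  let z' : ↥(Subgroup.centralizer ({z} : Set T)) := ⟨z, Subgroup.mem_centralizer_singleton_iff.2 rfl⟩
  have hz' : IsPGroup 2 ↥(Subgroup.zpowers z') := IsPGroup.of_card (n := 1) (by
    rw [Nat.card_zpowers, ← Subgroup.orderOf_coe, pow_one]; exact hz)
  have hzn : (Subgroup.zpowers z').Normal := by
    refine ⟨fun n hn g => ?_⟩
    obtain ⟨k, rfl⟩ := Subgroup.mem_zpowers_iff.1 hn
    have h1 : g * z' = z' * g := Subtype.ext (Subgroup.mem_centralizer_singleton_iff.1 g.2)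
    have h2 : g * z' ^ k * g⁻¹ = z' ^ k := by
      have h3 : Commute g (z' ^ k) := Commute.zpow_right h1 k
      rw [h3.eq, mul_inv_cancel_right]
    rw [h2]
    exact Subgroup.mem_zpowers_iff.2 ⟨k, rfl⟩
  have key : ∀ R : Sylow 2 ↥(Subgroup.centralizer ({z} : Set T)),
      (R : Subgroup ↥(Subgroup.centralizer ({z} : Set T))) = (P : Subgroup T).subgroupOf _ := by
    intro R
    have h1 : z' ∈ (R : Subgroup ↥(Subgroup.centralizer ({z} : Set T))) := by
      have h2 := R.3 (IsPGroup.to_sup_of_normal_right R.2 hz') le_sup_left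
      have h3 : Subgroup.zpowers z' ≤ (R : Subgroup ↥(Subgroup.centralizer ({z} : Set T))) := by
        rw [← h2]; exact le_sup_right
      exact h3 (Subgroup.mem_zpowers z')
    obtain ⟨P₁, hP₁⟩ := (R.2.map (Subgroup.centralizer ({z} : Set T)).subtype).exists_le_sylow
    have hzP₁ : z ∈ (P₁ : Subgroup T) := hP₁ ⟨z', h1, rfl⟩
    have h4 : P₁ = P := by
      by_contra hne
      have h5 : z ∈ (P₁ : Subgroup T) ⊓ P := ⟨hzP₁, hzP⟩
      rw [hti _ _ hne, Subgroup.mem_bot] at h5
      exact hz1 h5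
    rw [h4] at hP₁
    have h6 : (R : Subgroup ↥(Subgroup.centralizer ({z} : Set T))) ≤ (P : Subgroup T).subgroupOf _ := fun x hx =>
      Subgroup.mem_subgroupOf.2 (hP₁ ⟨x, hx, rfl⟩)
    have h7 : IsPGroup 2 ↥((P : Subgroup T).subgroupOf (Subgroup.centralizer ({z} : Set T))) :=
      P.2.comap_of_injective _ (Subgroup.subtype_injective _)
    exact (R.3 h7 h6).symm
  have hss : Subsingleton (Sylow 2 ↥(Subgroup.centralizer ({z} : Set T))) :=
    ⟨fun R S => Sylow.ext ((key R).trans (key S).symm)⟩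
  obtain ⟨R⟩ : Nonempty (Sylow 2 ↥(Subgroup.centralizer ({z} : Set T))) := inferInstance
  exact ⟨R, R.normal_of_subsingleton, R.2, R.not_dvd_index⟩

/-- **`PSU₃(q)`, `q ≥ 4` even** -/
theorem row_psu_three_even (F : Type) [Field F] [Fintype F] (q : ℕ) (hF : Fintype.card F = q ^ 2)
    (heven : Even q) (hq4 : 4 ≤ q) : Good4 (PSU 3 F q) := by
  have hfin : Finite (PSU 3 F q) := Quotient.finite _
  have : Fact (Nat.Prime 2) := ⟨Nat.prime_two⟩
  have hch : CharP F 2 := by
    obtain ⟨p, k, hp, hch, hk, hk0⟩ := exists_prime_pow hF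
    have h1 : 2 ∣ p ^ k := by rw [← hk]; exact heven.two_dvd
    have h2 : 2 = p := (Nat.prime_dvd_prime_iff_eq Nat.prime_two hp).1 (Nat.prime_two.dvd_of_dvd_pow h1)
    rw [h2]; exact hch
  obtain ⟨e, f, H⟩ := exists_frame (F := F) (q := q) (n := 3) hF (by norm_num)
  have hw : hermForm 3 F q (Pi.single 0 1) e = 0 := by
    refine ((H.mem _).1 ?_).1
    intro i hi
    have : i ≠ 0 := by
      rintro rfl
      simp at hi
    rw [Pi.single_eq_of_ne this]
  have hww : hermForm 3 F q (Pi.single 0 1) (Pi.single 0 1) = 1 := by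
    rw [herm_single_right hF, Pi.single_eq_same]
    simp
  obtain ⟨μ, hμ⟩ := exists_trace_eq hF (c := (1 : F)) (one_pow _)
  have h11 : (1 : F) + 1 = 0 := CharTwo.add_self_eq_zero 1
  have hS : IsSiegel q e (Pi.single 0 1) μ := ⟨H.ee, hw, by rw [hμ, hww, h11]⟩
  set s := siegel hF e (Pi.single 0 1) μ hS with hs
  have hadd : ∀ v : Fin 3 → F, v + v = 0 := fun v => by
    funext i
    exact CharTwo.add_self_eq_zero _
  have he0 : e 0 = 0 := by
    have h1 := hw
    rw [herm_single_left, one_mul] at h1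
    exact eq_zero_of_pow_eq_zero h1
  have hene : e ≠ 0 := by
    intro h
    have h6 := H.ef
    rw [h, herm_zero_left] at h6
    exact zero_ne_one h6
  -- the square
  have h2 : ∀ v, act (s * s) v = v + hermForm 3 F q v e • e := by
    intro v
    rw [hs, siegel_mul hF hS hS, act_siegel]
    rw [hadd, herm_zero_right hF, hww, smul_zero, add_zero, sub_zero, CharTwo.add_self_eq_zero μ, zero_sub,
      CharTwo.neg_eq, one_mul]
  have hs2 : s ^ 2 ≠ 1 := by
    intro h
    have h3 := h2 f
    rw [← pow_two, h, act_one] at h3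
    have h4 : hermForm 3 F q f e = 1 := by rw [herm_swap hF e f, H.ef, one_pow]
    rw [h4, one_smul] at h3
    have h5 : e = 0 := by
      have : f + 0 = f + e := by rw [add_zero]; exact h3
      exact (add_left_cancel this).symm
    exact hene h5
  have hs4 : s ^ 4 = 1 := by
    apply ext_act
    intro v
    have : s ^ 4 = (s * s) * (s * s) := by rw [← pow_two s, ← pow_add]
    rw [this, act_mul, h2, h2, act_one, herm_add_left, herm_smul_left, H.ee, mul_zero, add_zero, add_assoc, ← add_smul,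
      CharTwo.add_self_eq_zero, zero_smul, add_zero]
  have h7 : orderOf (pr 3 F q s) = 4 := by
    have h7 : orderOf (pr 3 F q s) = 2 ^ (1 + 1) := by
      refine orderOf_eq_prime_pow ?_ ?_
      · rw [pow_one, ← map_pow, pr_eq_one_iff]
        intro h8
        exact hs2 (eq_one_of_center_of_pow hF le_rfl (p := 2) h8 (k := 1) (by rw [pow_one, ← pow_mul]; exact hs4))
      · rw [← map_pow]
        show pr 3 F q (s ^ 4) = 1
        rw [hs4, map_one]
    rw [h7]
    norm_num
  have hz : orderOf (pr 3 F q (s * s)) = 2 := by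
    rw [map_mul, ← pow_two, orderOf_pow, h7]
    rfl
  -- the torus
  obtain ⟨c, hc0, hc⟩ := H372.FxU.exists_unit hF (s := q + 1) (by rw [H372.FxU.sq_sub hF]; exact dvd_mul_left _ _)
  have hc1 : c ^ (q + 1) = 1 := by rw [← hc]; exact pow_orderOf_eq_one c
  have hc3 : c * c * c ≠ 1 := by
    intro h
    have h3 := orderOf_dvd_of_pow_eq_one (x := c) (n := 3) (by rw [pow_succ, pow_two]; exact h)
    have h4 := Nat.le_of_dvd (by norm_num) h3
    omega
  have hci : ((c * c)⁻¹) ^ (q + 1) = 1 := by rw [inv_pow, mul_pow, hc1, one_mul, inv_one]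
  let d : Fin 3 → F := ![(c * c)⁻¹, c, c]
  have hd : ∏ i, d i = 1 := by
    rw [Fin.prod_univ_three]
    show (c * c)⁻¹ * c * c = 1
    rw [mul_assoc]
    exact inv_mul_cancel₀ (mul_ne_zero hc0 hc0)
  have hdq : ∀ i, d i ^ (q + 1) = 1 := by
    intro i
    fin_cases i
    · exact hci
    · exact hc1
    · exact hc1
  set D := suDiag q d hd hdq with hD
  have hact : ∀ v i, act D v i = d i * v i := fun v i => H372.FxU.act_suDiag hd hdq v i
  have hDe : act D e = c • e := by
    funext i
    rw [hact, Pi.smul_apply, smul_eq_mul]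
    fin_cases i
    · show d 0 * e 0 = c * e 0
      rw [he0, mul_zero, mul_zero]
    · rfl
    · rfl
  have hDw : act D (Pi.single 0 1) = (c * c)⁻¹ • (Pi.single 0 1 : Fin 3 → F) := by
    funext i
    rw [hact, Pi.smul_apply, smul_eq_mul]
    fin_cases i
    · rfl
    · show d 1 * (Pi.single 0 1 : Fin 3 → F) 1 = _ * (Pi.single 0 1 : Fin 3 → F) 1
      rw [Pi.single_eq_of_ne (by decide), mul_zero, mul_zero]
    · show d 2 * (Pi.single 0 1 : Fin 3 → F) 2 = _ * (Pi.single 0 1 : Fin 3 → F) 2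
      rw [Pi.single_eq_of_ne (by decide), mul_zero, mul_zero]
  have hDh : ∀ v, hermForm 3 F q (act D v) e = c * hermForm 3 F q v e := by
    intro v
    have h3 : hermForm 3 F q (act D v) (act D e) = hermForm 3 F q v e := herm_act D v e
    rw [hDe, herm_smul_right] at h3
    rw [← h3, ← mul_assoc, ← pow_succ', hc1, one_mul]
  have hDz : D * (s * s) = (s * s) * D := by
    apply ext_act
    intro v
    rw [act_mul, h2, act_mul, h2, act_add, act_smul, hDe, hDh, smul_smul, mul_comm]
  have hodd : Odd (orderOf (pr 3 F q D)) := by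
    have h3 : (pr 3 F q D) ^ (q + 1) = 1 := by
      have h4 : D ^ (q + 1) = 1 := by
        apply ext_act
        intro v
        have h5 : ∀ j : ℕ, ∀ v i, act (D ^ j) v i = d i ^ j * v i := by
          intro j
          induction j with
          | zero => intro v i; rw [pow_zero, act_one, pow_zero, one_mul]
          | succ j ih => intro v i; rw [pow_succ, act_mul, ih, hact, pow_succ, mul_assoc]
        funext i
        rw [h5, hdq, one_mul, act_one]
      rw [← map_pow, h4, map_one]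
    have h4 : Odd (q + 1) := heven.add_one
    exact h4.of_dvd_nat (orderOf_dvd_of_pow_eq_one h3)
  have hne : pr 3 F q D * pr 3 F q s ≠ pr 3 F q s * pr 3 F q D := by
    intro h
    rw [← map_mul, ← map_mul] at h
    obtain ⟨z, hz, hzz⟩ := exists_center_mul h
    obtain ⟨ζ, hζ0, -, hζ⟩ := exists_scalar_of_mem_center hF le_rfl hz
    have hse : act s e = e := act_siegel_self hF hS
    have hsw : act s (Pi.single 0 1) = (Pi.single 0 1 : Fin 3 → F) + e := by
      rw [hs, act_siegel, hw, hww, mul_zero, zero_smul, add_zero, zero_sub, CharTwo.neg_eq, one_smul]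
    have e1 : act (s * D) e = c • e := by rw [act_mul, hDe, act_smul, hse]
    have e2 : act (D * s * z) e = ζ • c • e := by
      rw [act_mul, hζ, act_smul, act_mul, hse, hDe]
    rw [hzz, e2] at e1
    have hζ1 : ζ = 1 := by
      rw [smul_smul] at e1
      have h3 := smul_left_injective F hene e1
      exact mul_right_cancel₀ hc0 (by rw [one_mul]; exact h3)
    have e3 : act (s * D) (Pi.single 0 1) = (c * c)⁻¹ • (Pi.single 0 1 : Fin 3 → F) + (c * c)⁻¹ • e := by
      rw [act_mul, hDw, act_smul, hsw, smul_add]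
    have e4 : act (D * s * z) (Pi.single 0 1) = (c * c)⁻¹ • (Pi.single 0 1 : Fin 3 → F) + c • e := by
      rw [act_mul, hζ, hζ1, one_smul, act_mul, hsw, act_add, hDw, hDe]
    rw [hzz, e4] at e3
    have h3 := smul_left_injective F hene (add_left_cancel e3)
    apply hc3
    have h4 : c * (c * c) = 1 := by
      have h5 : c = (c * c)⁻¹ := h3
      calc c * (c * c) = (c * c)⁻¹ * (c * c) := by rw [← h5]
        _ = 1 := inv_mul_cancel₀ (mul_ne_zero hc0 hc0)
    rw [mul_assoc]
    exact h4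
  -- conclusion
  obtain ⟨Q, hQn, hQp, hQi⟩ := exists_normal_sylow
    (fun P R hPR => Cfsg.Agent.H488.PsuTwo.ti (p := 2) hF (MulEquiv.refl (PSU 3 F q)) P R hPR) hz
  refine ⟨pr 3 F q (s * s), pr 3 F q s, hz, ?_, ⟨Q, hQn, hQp, hQi⟩, h7⟩
  let a : ↥(Subgroup.centralizer ({pr 3 F q (s * s)} : Set (PSU 3 F q))) := ⟨pr 3 F q s,
    Subgroup.mem_centralizer_singleton_iff.2 (by rw [← map_mul, ← map_mul, mul_assoc])⟩
  let t : ↥(Subgroup.centralizer ({pr 3 F q (s * s)} : Set (PSU 3 F q))) := ⟨pr 3 F q D,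
    Subgroup.mem_centralizer_singleton_iff.2 (by rw [← map_mul, ← map_mul, hDz])⟩
  have haQ : a ∈ Q := by
    have h3 : orderOf a = 4 := by rw [← Subgroup.orderOf_coe]; exact h7
    have h4 : Nat.Coprime Q.index (orderOf a) := by
      rw [h3, show (4 : ℕ) = 2 ^ 2 by norm_num]
      exact Nat.Coprime.pow_right 2 ((Nat.Prime.coprime_iff_not_dvd Nat.prime_two).2 hQi).symm
    obtain ⟨m, hm⟩ := exists_pow_eq_self_of_coprime h4
    have h5 := Q.pow_mem (Subgroup.pow_index_mem Q a) m
    rwa [hm] at h5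
  exact not_compl_of_act Q hQp t (by rw [← Subgroup.orderOf_coe]; exact hodd) (fun x hx => hQn.conj_mem x hx t) haQ
    (fun h => hne (congrArg Subtype.val h))

end Cfsg.Agent.H372.Five
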